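import Cfsg.Agent.AschbacherTwelve.Symplectic
import Cfsg.Agent.MaxSub.CentralProduct
import Cfsg.Agent.Forms4.SymplecticSimple

/-!
The symplectic group lies in no normaliser of a two-group of symplectic type and in no tensor wreath stabiliser.
-/

set_option autoImplicit false

namespace CfsgLib.AschbacherSp

open Matrix Cfsg.Geo CfsgLib.Aschbacher CfsgLib.TensorNonmax CfsgLib.AschbacherSymplectic

variable {m : ℕ} {F : Type*} [Field F]

theorem subfield_ne_top [Fintype F] {F₀ : Subfield F} {r : ℕ} (hr : r.Prime)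
    (hc : Fintype.card F = Nat.card F₀ ^ r) : F₀ ≠ ⊤ := by
  rintro rfl
  rw [show Nat.card (⊤ : Subfield F) = Fintype.card F by
    rw [← Nat.card_eq_fintype_card]; exact Nat.card_congr Subfield.topEquiv.toEquiv] at hc
  nth_rw 1 [← pow_one (Fintype.card F)] at hc
  have := Nat.pow_right_injective (Fintype.one_lt_card (α := F)) hc
  exact hr.one_lt.ne this

/-- A transvection moves some pure tensor off the pure tensors. -/
theorem not_le_wreath [Finite F] {d t : ℕ} (hd : 2 ≤ d) (ht : 2 ≤ t) (e : (Fin m ⊕ Fin m) ≃ (Fin t → Fin d))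
    (P : GL (Fin m ⊕ Fin m) F) : ¬ Cfsg.spGL m F ≤ tensorWreathSubgroup d t e P := by
  classical
  intro hle
  let o : Fin d := ⟨0, by omega⟩
  let u : Fin d := ⟨1, by omega⟩
  let i₀ : Fin t := ⟨0, by omega⟩
  let i₁ : Fin t := ⟨1, by omega⟩
  have hou : o ≠ u := fun h => by simpa [o, u] using congrArg Fin.val h
  have hi : i₀ ≠ i₁ := fun h => by simpa [i₀, i₁] using congrArg Fin.val h
  let a : Fin t → Fin d := fun _ => o
  let b : Fin t → Fin d := Function.update (Function.update a i₀ u) i₁ u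
  let a₀ : Fin t → Fin d := Function.update a i₀ u
  let a₁ : Fin t → Fin d := Function.update a i₁ u
  let y : (Fin t → Fin d) → F := fun c => (if c = a then 1 else 0) + if c = b then 1 else 0
  let xs : Fin t → Fin d → F := fun _ => Pi.single o 1
  have hab : a ≠ b := fun h => hou (by simpa [a, b] using congrFun h i₁)
  have na : ∀ {p q : Fin t → Fin d} (i : Fin t), p i ≠ q i → p ≠ q := fun i hne h => hne (congrFun h i)
  have hy0 : mat P *ᵥ (y ∘ e) ≠ 0 := fun h => by
    have h1 := congrFun (mulVec_injective P (h.trans (Matrix.mulVec_zero _).symm)) (e.symm a)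
    simp [y, hab] at h1
  have hx0 : ptmul e P xs ≠ 0 := fun h => by
    simp only [ptmul, cvec_apply] at h
    have h1 := congrFun (mulVec_injective P (h.trans (Matrix.mulVec_zero _).symm)) (e.symm a)
    simp [xs, a] at h1
  haveI := Fintype.ofFinite F
  obtain ⟨A, hA⟩ := Forms4.exists_mulVec_eq hx0 hy0
  obtain ⟨σ, as, has⟩ := mem_tensorWreathSubgroup e P (hle (Forms4.toSpGL A).2)
  let w : (Fin t → Fin d) → F := fun c => ∏ i, (mat (as i) *ᵥ xs (σ i)) (c i)
  have h1 : mat P *ᵥ (y ∘ e) = mat P *ᵥ (w ∘ e) := by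
    rw [← hA]
    refine (has xs).trans ?_
    simp only [ptmul, cvec_apply]
    rfl
  have h3 := mulVec_injective P h1
  have hw : ∀ c, w c = y c := fun c => by simpa using (congrFun h3 (e.symm c)).symm
  have hprod : w a * w b = w a₀ * w a₁ := by
    simp only [w, ← Finset.prod_mul_distrib]
    refine Finset.prod_congr rfl fun i _ => ?_
    rcases eq_or_ne i i₀ with rfl | h0
    · simp [a, b, a₀, a₁, hi, mul_comm]
    rcases eq_or_ne i i₁ with rfl | h1
    · simp [a, b, a₀, a₁, hi.symm]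
    simp [a, b, a₀, a₁, h0, h1]
  have ha0 : w a₀ = 0 := by
    rw [hw]
    show (if a₀ = a then (1 : F) else 0) + (if a₀ = b then 1 else 0) = 0
    rw [if_neg (na i₀ (by simp [a₀, a, hou.symm])), if_neg (na i₁ (by simp [a₀, b, a, hi.symm, hou])), add_zero]
  rw [ha0, zero_mul, hw, hw] at hprod
  simp [y, hab, hab.symm] at hprod

/-- The symplectic group of odd characteristic normalises no irreducible two-group of similitudes. -/
theorem not_le_normalizer [Finite F] (hm : 2 ≤ m) {R : Subgroup (GL (Fin m ⊕ Fin m) F)}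
    (hR : IsSymplecticTypeGroup 2 R) (habs : ActsAbsolutelyIrreducibly (matrixSet R))
    (hsim : R ≤ similarityGroup (Cfsg.sympForm m F)) (h2 : (2 : F) ≠ 0) :
    ¬ Cfsg.spGL m F ≤ subgroupNormalizer R := by
  classical
  intro hle
  haveI := Fintype.ofFinite F
  obtain ⟨p, hp⟩ := CharP.exists F
  have hprime : p.Prime := CharP.char_is_prime F p
  have hp2 : p ≠ 2 := fun h => h2 (by subst h; exact_mod_cast CharP.cast_eq_zero F 2)
  have htp : ∀ (v : Fin m ⊕ Fin m → F), (Forms4.transvHom v (Multiplicative.ofAdd 1)) ^ p = 1 := fun v => by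
    rw [← map_pow, ← ofAdd_nsmul, nsmul_one, CharP.cast_eq_zero, ofAdd_zero, map_one]
  let φ : Matrix.symplecticGroup (Fin m) F →* GL (Fin m ⊕ Fin m) F :=
    (Cfsg.spGL m F).subtype.comp Forms4.toSpGL
  let N : Subgroup (Matrix.symplecticGroup (Fin m) F) := R.comap φ
  haveI : N.Normal := ⟨fun x hx g => by
    show φ (g * x * g⁻¹) ∈ R
    rw [map_mul, map_mul, map_inv]
    exact (hle (Forms4.toSpGL g).2 (φ x)).1 hx⟩
  have hcen : N ≤ Subgroup.center _ := by
    refine (Forms4.normal_eq_top_or_le_center (by omega) (Forms4.commutator_Sp_eq_top (Or.inr (Or.inl ⟨hm, h2⟩))) N).resolve_left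
      fun htop => ?_
    obtain ⟨v, hv⟩ : ∃ v : Fin m ⊕ Fin m → F, v = Pi.single (Sum.inl ⟨0, by omega⟩) 1 := ⟨_, rfl⟩
    have hmem : Forms4.transvHom v (Multiplicative.ofAdd 1) ∈ N := htop ▸ trivial
    obtain ⟨j, hj⟩ := hR.pGroup ⟨_, hmem⟩
    have h1 : φ (Forms4.transvHom v (Multiplicative.ofAdd 1)) ^ (2 ^ j) = 1 := congrArg Subtype.val hj
    have h3 : φ (Forms4.transvHom v (Multiplicative.ofAdd 1)) ^ p = 1 := by rw [← map_pow, htp, map_one]
    have h4 := pow_gcd_eq_one.2 ⟨h1, h3⟩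
    rw [Nat.Coprime.gcd_eq_one (Nat.Coprime.pow_left j ((Nat.coprime_primes Nat.prime_two hprime).2 (Ne.symm hp2))),
      pow_one] at h4
    have h5 := congrArg (fun g : GL (Fin m ⊕ Fin m) F => (mat g *ᵥ Pi.single (Sum.inr ⟨0, by omega⟩) 1) (Sum.inl ⟨0, by omega⟩)) h4
    change ((Forms4.transvHom v (Multiplicative.ofAdd 1)).1 *ᵥ Pi.single (Sum.inr ⟨0, by omega⟩) 1) _ =
      ((1 : Matrix (Fin m ⊕ Fin m) (Fin m ⊕ Fin m) F) *ᵥ Pi.single (Sum.inr ⟨0, by omega⟩) 1) _ at h5
    rw [Matrix.one_mulVec] at h5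
    change ((Forms.spTransv v (1 : F)).1 *ᵥ _) _ = _ at h5
    rw [Forms4.spTransv_mulVec] at h5
    simp [hv, Forms.sympForm_single_inl] at h5
  -- every element of the group commutes with every transvection
  have hcomm : ∀ x ∈ R, ∀ v : Fin m ⊕ Fin m → F,
      x * φ (Forms4.transvHom v (Multiplicative.ofAdd 1)) = φ (Forms4.transvHom v (Multiplicative.ofAdd 1)) * x := by
    intro x hx v
    set t := Forms4.transvHom v (Multiplicative.ofAdd (1 : F)) with ht
    obtain ⟨c, hc⟩ := hsim hx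
    have hconj : x * φ t * x⁻¹ ∈ Cfsg.spGL m F := by
      intro a b
      have h' : ∀ u w, Cfsg.sympForm m F (mat x⁻¹ *ᵥ u) (mat x⁻¹ *ᵥ w) = ((c : F))⁻¹ * Cfsg.sympForm m F u w := by
        intro u w
        have := hc (mat x⁻¹ *ᵥ u) (mat x⁻¹ *ᵥ w)
        simp only [Matrix.mulVec_mulVec] at this
        rw [show (x : Matrix _ _ F) * mat x⁻¹ = 1 from mat_mul_inv x, Matrix.one_mulVec, Matrix.one_mulVec] at this
        rw [this, inv_mul_cancel_left₀ c.ne_zero]
      show Cfsg.sympForm m F (mat (x * φ t * x⁻¹) *ᵥ a) (mat (x * φ t * x⁻¹) *ᵥ b) = _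
      simp only [mat, Units.val_mul, ← Matrix.mulVec_mulVec]
      rw [hc, show ∀ u w, Cfsg.sympForm m F (mat (φ t) *ᵥ u) (mat (φ t) *ᵥ w) = Cfsg.sympForm m F u w from
        (Forms4.toSpGL t).2, h', mul_inv_cancel_left₀ c.ne_zero]
    obtain ⟨y, hy⟩ := Forms4.toSpGL_surjective ⟨_, hconj⟩
    have hyφ : φ y = x * φ t * x⁻¹ := congrArg Subtype.val hy
    have hN : y * t⁻¹ ∈ N := by
      show φ (y * t⁻¹) ∈ R
      rw [map_mul, map_inv, hyφ, show x * φ t * x⁻¹ * (φ t)⁻¹ = x * (φ t * x⁻¹ * (φ t)⁻¹) by group]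
      exact mul_mem hx ((hle (Forms4.toSpGL t).2 x⁻¹).1 (inv_mem hx))
    obtain ⟨s, hs⟩ := Forms4.mem_center_iff.1 (hcen hN)
    have hs2 : s ^ 2 = 1 := Forms4.sq_eq_one_of_scalar (by omega) hs
    have hyt : y.1 = s • t.1 := by
      have h6 := congrArg (· * t.1) hs
      simp only [smul_mul_assoc, one_mul] at h6
      rw [← h6, ← Submonoid.coe_mul, inv_mul_cancel_right]
    have hyp : y ^ p = 1 := by
      have h7 : φ y ^ p = 1 := by rw [hyφ, conj_pow, ← map_pow, htp, map_one, mul_one, mul_inv_cancel]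
      rw [← map_pow] at h7
      have h8 := congrArg (fun g : GL (Fin m ⊕ Fin m) F => mat g) h7
      exact Subtype.ext h8
    have hsp : s ^ p = 1 := by
      have h9 := congrArg Subtype.val hyp
      rw [SubmonoidClass.coe_pow, hyt, smul_pow, ← SubmonoidClass.coe_pow, htp, OneMemClass.coe_one] at h9
      simpa using congrFun (congrFun h9 (Sum.inl ⟨0, by omega⟩)) (Sum.inl ⟨0, by omega⟩)
    have hs1 : s = 1 := by
      have := pow_gcd_eq_one.2 ⟨hs2, hsp⟩
      rwa [Nat.Coprime.gcd_eq_one ((Nat.coprime_primes Nat.prime_two hprime).2 (Ne.symm hp2)), pow_one] at this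
    rw [hs1, one_smul] at hyt
    rw [Subtype.ext hyt] at hyφ
    calc x * φ t = x * φ t * x⁻¹ * x := by group
      _ = φ t * x := by rw [← hyφ]
  -- hence it consists of scalars
  have hscal : ∀ x ∈ R, ∀ v : Fin m ⊕ Fin m → F, v ≠ 0 → ∃ s : F, mat x *ᵥ v = s • v := by
    intro x hx v hv
    obtain ⟨z, hz⟩ := ((AschbacherSymplectic.isRefl (m := m) (F := F)).nondegenerate v hv).1
    have h1 := congrArg (fun g : GL (Fin m ⊕ Fin m) F => mat g *ᵥ z) (hcomm x hx v)
    have ht : ∀ w, mat (φ (Forms4.transvHom v (Multiplicative.ofAdd 1))) *ᵥ w = w + (Cfsg.sympForm m F w v) • v := by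
      intro w
      show (Forms.spTransv v (1 : F)).1 *ᵥ w = _
      rw [Forms4.spTransv_mulVec, one_mul]
    simp only [mat, Units.val_mul, ← Matrix.mulVec_mulVec] at h1 ht
    rw [ht, ht, Matrix.mulVec_add, Matrix.mulVec_smul] at h1
    refine ⟨(Cfsg.sympForm m F z v)⁻¹ * Cfsg.sympForm m F (mat x *ᵥ z) v, ?_⟩
    rw [mul_smul, ← add_left_cancel h1, smul_smul, inv_mul_cancel₀ hz, one_smul]
  obtain ⟨hirr, habs'⟩ := habs
  let W : Submodule F (Fin m ⊕ Fin m → F) := Submodule.span F {Pi.single (Sum.inl ⟨0, by omega⟩) 1}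
  have hv0 : (Pi.single (Sum.inl ⟨0, by omega⟩) (1 : F) : Fin m ⊕ Fin m → F) ≠ 0 := fun h => by
    simpa using congrFun h (Sum.inl ⟨0, by omega⟩)
  rcases hirr W (by
    rintro _ ⟨x, hx, rfl⟩ _ ⟨w, hw, rfl⟩
    obtain ⟨a, rfl⟩ := Submodule.mem_span_singleton.1 hw
    rw [Matrix.toLin'_apply]
    obtain ⟨s, hs⟩ := hscal x hx _ hv0
    change mat x *ᵥ (a • _) ∈ W
    rw [Matrix.mulVec_smul, hs, smul_smul]
    exact Submodule.smul_mem _ _ (Submodule.mem_span_singleton_self _)) with h | h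
  · exact hv0 ((Submodule.span_singleton_eq_bot).1 h)
  · have h1 := congrArg (fun U : Submodule F _ => Module.finrank F U) h
    rw [finrank_top, Module.finrank_fintype_fun_eq_card, finrank_span_singleton hv0] at h1
    simp [Fintype.card_sum] at h1
    omega

end CfsgLib.AschbacherSp
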