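import Cfsg.Agent.MaxSub.SympStructure
import Cfsg.Agent.MaxSub.SymplecticExceptional
import Cfsg.Agent.Aschbacher57.SympTwicePrime
import Cfsg.Agent.AschbacherSp.NotLe

/-!
# Maximal subgroups of the symplectic groups

Each is the full stabiliser in one of the geometric classes, with the degrees recorded, or is in the residual class.
-/

set_option autoImplicit false
set_option linter.unusedSectionVars false
set_option linter.style.haveILetI false
set_option maxHeartbeats 1000000

namespace CfsgLib.AschbacherSp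

attribute [-simp] RingEquiv.coe_refl

open Matrix Cfsg.Geo CfsgLib.TensorNonmax CfsgLib.Aschbacher CfsgLib.AschbacherForms
  CfsgLib.AschbacherSymplectic CfsgLib.MaxSub
open scoped Kronecker commutatorElement

variable {m : ℕ} {F : Type*} [Field F] [Fintype F]

theorem decomposition_card {t k : ℕ} {D : Fin t → Submodule F (Fin m ⊕ Fin m → F)}
    (hD : IsMDecomposition k D) : t * k = 2 * m := by
  have hint := DirectSum.isInternal_submodule_of_iSupIndep_of_iSup_eq_top hD.indep hD.iSup_eq_top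
  have h := (LinearEquiv.ofBijective (DirectSum.coeLinearMap D) hint).finrank_eq
  rw [Module.finrank_directSum, Module.finrank_fintype_fun_eq_card] at h
  simp only [hD.finrank_eq, Finset.sum_const, Finset.card_univ, Fintype.card_fin, Fintype.card_sum,
    smul_eq_mul] at h
  omega

/-- The possible forms of a maximal subgroup. -/
def MaximalCases (m : ℕ) (F : Type*) [Field F] [Fintype F] (H : Subgroup (GL (Fin m ⊕ Fin m) F)) : Prop :=
  (∃ W : Submodule F (Fin m ⊕ Fin m → F), W ≠ ⊥ ∧ IsTotallySingularFor (Cfsg.sympForm m F) W ∧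
    H = subspaceStabilizer W ⊓ Cfsg.spGL m F) ∨
  (∃ W : Submodule F (Fin m ⊕ Fin m → F), W ≠ ⊥ ∧ IsNondegenerateOn (Cfsg.sympForm m F) W ∧
    Module.finrank F W < m ∧ Even (Module.finrank F W) ∧ H = subspaceStabilizer W ⊓ Cfsg.spGL m F) ∨
  (∃ (t k : ℕ) (D : Fin t → Submodule F (Fin m ⊕ Fin m → F)),
    IsNondegenerateMDecomposition (Cfsg.sympForm m F) k D ∧ t * k = 2 * m ∧ 2 ≤ k ∧ Even k ∧
    (k = 2 → 4 ≤ m → 3 ≤ Fintype.card F) ∧ H = decompositionStabilizer D ⊓ Cfsg.spGL m F) ∨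
  (Odd (Fintype.card F) ∧ ∃ D : Fin 2 → Submodule F (Fin m ⊕ Fin m → F), IsMDecomposition m D ∧
    (∀ i, IsTotallySingularFor (Cfsg.sympForm m F) (D i)) ∧ H = decompositionStabilizer D ⊓ Cfsg.spGL m F) ∨
  (∃ (r : ℕ) (K : Subalgebra F (Matrix (Fin m ⊕ Fin m) (Fin m ⊕ Fin m) F)), r.Prime ∧ r ∣ 2 * m ∧
    IsFieldSubalgebra r K ∧ IsSelfAdjointFor (Cfsg.sympForm m F) K ∧
    (∀ k ∈ K, ∀ v, Cfsg.sympForm m F (k *ᵥ v) v = 0) ∧ H = subalgebraNormalizer K ⊓ Cfsg.spGL m F) ∨
  (Odd (Fintype.card F) ∧ ∃ K : Subalgebra F (Matrix (Fin m ⊕ Fin m) (Fin m ⊕ Fin m) F),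
    IsFieldSubalgebra 2 K ∧ IsAdjointClosedFor (Cfsg.sympForm m F) K ∧
    ¬ IsSelfAdjointFor (Cfsg.sympForm m F) K ∧ H = subalgebraNormalizer K ⊓ Cfsg.spGL m F) ∨
  (Odd (Fintype.card F) ∧ ∃ (n₁ n₂ : ℕ) (e : (Fin m ⊕ Fin m) ≃ Fin n₁ × Fin n₂) (P : GL (Fin m ⊕ Fin m) F)
    (f₁ : (Fin n₁ → F) → (Fin n₁ → F) → F) (f₂ : (Fin n₂ → F) → (Fin n₂ → F) → F),
    2 ≤ n₁ ∧ 3 ≤ n₂ ∧ n₁ * n₂ = 2 * m ∧ IsSymplecticForm f₁ ∧ IsSymmetricForm f₂ ∧
    IsTensorFormStructure id (Cfsg.sympForm m F) f₁ f₂ e P ∧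
    H = tensorProductSubgroup n₁ n₂ e P ⊓ Cfsg.spGL m F) ∨
  (∃ (F₀ : Subfield F) (r : ℕ) (P : GL (Fin m ⊕ Fin m) F) (ζ : F), r.Prime ∧
    Fintype.card F = Nat.card F₀ ^ r ∧ ζ ≠ 0 ∧ IsFormRationalStructure (Cfsg.sympForm m F) F₀ ζ P ∧
    H = subfieldSubgroup F₀ P ⊓ Cfsg.spGL m F) ∨
  (∃ (R : Subgroup (GL (Fin m ⊕ Fin m) F)) (p k : ℕ), IsSymplecticTypeGroup 2 R ∧
    ActsAbsolutelyIrreducibly (matrixSet R) ∧ R ≤ similarityGroup (Cfsg.sympForm m F) ∧ p.Prime ∧ Odd p ∧
    Fintype.card F = p ∧ Nat.card R = 2 ^ (1 + 2 * k) ∧ Nat.card (Subgroup.center R) = 2 ∧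
    IsOfMinusType k R ∧ 2 ^ k = 2 * m ∧ H = subgroupNormalizer R ⊓ Cfsg.spGL m F) ∨
  (Odd (Fintype.card F) ∧ ∃ (d t : ℕ) (e : (Fin m ⊕ Fin m) ≃ (Fin t → Fin d)) (P : GL (Fin m ⊕ Fin m) F)
    (f₁ : (Fin d → F) → (Fin d → F) → F), Odd t ∧ 3 ≤ t ∧ 2 ≤ d ∧ ¬ (Fintype.card F = 3 ∧ d = 2) ∧
    d ^ t = 2 * m ∧ IsSymplecticForm f₁ ∧ IsTensorPowerFormStructure id (Cfsg.sympForm m F) f₁ e P ∧
    H = tensorWreathSubgroup d t e P ⊓ Cfsg.spGL m F) ∨
  (¬ Odd (Fintype.card F) ∧ ∃ Q : (Fin m ⊕ Fin m → F) → F, IsNondegenerateQuadraticForm Q ∧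
    (∀ u v, QuadraticMap.polar Q u v = Cfsg.sympForm m F u v) ∧
    H = quadSimilarityGroup Q ⊓ Cfsg.spGL m F) ∨
  InSymplecticResidualClass H

/-- Maximal subgroups of a symplectic group. -/
theorem maximal_cases (hm : 2 ≤ m) {H : Subgroup (GL (Fin m ⊕ Fin m) F)}
    (hmax : IsMaximalIn (Cfsg.spGL m F) H) : MaximalCases m F H := by
  have hH : H ≤ Cfsg.spGL m F := hmax.1.le
  classical
  haveI : Nonempty (Fin m ⊕ Fin m) := ⟨Sum.inl ⟨0, by omega⟩⟩
  have hcard : Fintype.card (Fin m ⊕ Fin m) = 2 * m := by simp [two_mul]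
  have hf := isRefl (m := m) (F := F)
  have hfix := fixes_of_le hH
  have hsymp := MaxSub.isSymplecticForm_sympForm (m := m) (F := F)
  have h2odd : Odd (Fintype.card F) → (2 : F) ≠ 0 := two_ne_zero_of_odd
  have h2even : ¬ Odd (Fintype.card F) → (2 : F) = 0 := by
    intro h
    by_contra h2
    exact h (Nat.odd_iff.2 (FiniteField.odd_card_of_char_ne_two fun hc => h2 (by
      haveI := ringChar.of_eq hc
      exact CharTwo.two_eq_zero)))
  -- members
  have heq : ∀ {X : Subgroup (GL (Fin m ⊕ Fin m) F)}, H ≤ X → ¬ Cfsg.spGL m F ≤ X →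
      H = X ⊓ Cfsg.spGL m F := fun hle hne => eq_inf_of_maximal hmax hle hne
  have heven : ∀ W : Submodule F (Fin m ⊕ Fin m → F), IsNondegenerateOn (Cfsg.sympForm m F) W →
      Even (Module.finrank F W) := fun W hW => Nat.not_odd_iff_even.1 fun hodd =>
    CfsgLib.AschbacherSymplectic57.not_nondegenerate_of_odd hodd hW
  have htop : ∀ W : Submodule F (Fin m ⊕ Fin m → F), Module.finrank F W ≤ m → W ≠ ⊤ := fun W hW e => by
    subst e
    rw [finrank_top, Module.finrank_fintype_fun_eq_card, hcard] at hW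
    omega
  have hTS : ∀ W : Submodule F (Fin m ⊕ Fin m → F), W ≠ ⊥ →
      IsTotallySingularFor (Cfsg.sympForm m F) W → H ≤ subspaceStabilizer W →
      MaximalCases m F H := fun W h0 hW hle => by
    refine Or.inl (⟨W, h0, hW, heq hle (not_le_subspace h0 fun e => ?_)⟩)
    subst e
    obtain ⟨⟨x, hx⟩, -⟩ := hf.nondegenerate (Pi.single (Sum.inl ⟨0, by omega⟩) 1)
      (fun h => by simpa using congrFun h (Sum.inl ⟨0, by omega⟩))
    exact hx (hW x trivial _ trivial)
  have hND : ∀ W : Submodule F (Fin m ⊕ Fin m → F), W ≠ ⊥ →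
      IsNondegenerateOn (Cfsg.sympForm m F) W → Module.finrank F W < m →
      H ≤ subspaceStabilizer W → MaximalCases m F H := fun W h0 hW hlt hle =>
    Or.inr (Or.inl (⟨W, h0, hW, hlt, heven W hW, heq hle (not_le_subspace h0 (htop W hlt.le))⟩))
  have hDec : ∀ {t k : ℕ} (D : Fin t → Submodule F (Fin m ⊕ Fin m → F)),
      IsNondegenerateMDecomposition (Cfsg.sympForm m F) k D → H ≤ decompositionStabilizer D →
      MaximalCases m F H := fun {t k} D hD hle => by
    have hk : Even k := hD.decomp.finrank_eq ⟨0, by have := hD.decomp.two_le; omega⟩ ▸ heven _ (hD.nondegenerate _)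
    have hk2 : 2 ≤ k := by
      obtain ⟨c, rfl⟩ := hk
      have := hD.decomp.pos
      omega
    have hne := not_le_decomposition hD.decomp hk2
    refine Or.inr (Or.inr (Or.inl (⟨t, k, D, hD, decomposition_card hD.decomp, hk2, hk, fun e hm4 => ?_, heq hle hne⟩)))
    subst e
    by_contra hlt
    obtain ⟨L, h1, h2⟩ := not_maximal_spPlanes hm4 (by have := Fintype.one_lt_card (α := F); omega) hD
    rw [← heq hle hne] at h1
    rcases hmax.2 L h1.le h2.le with e | e
    · exact h1.ne e.symm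
    · exact h2.ne e
  have hPair : ∀ (D : Fin 2 → Submodule F (Fin m ⊕ Fin m → F)), Odd (Fintype.card F) →
      IsMDecomposition m D → (∀ i, IsTotallySingularFor (Cfsg.sympForm m F) (D i)) →
      H ≤ decompositionStabilizer D → MaximalCases m F H := fun D ho hD hts hle =>
    Or.inr (Or.inr (Or.inr (Or.inl (⟨ho, D, hD, hts, heq hle (not_le_decomposition hD hm)⟩))))
  have hQuad : ∀ Q : (Fin m ⊕ Fin m → F) → F, ¬ Odd (Fintype.card F) →
      IsNondegenerateQuadraticForm Q →
      (∀ u v, QuadraticMap.polar Q u v = Cfsg.sympForm m F u v) → H ≤ quadSimilarityGroup Q →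
      MaximalCases m F H := fun Q he hQ hpol hle =>
    Or.inr (Or.inr (Or.inr (Or.inr (Or.inr (Or.inr (Or.inr (Or.inr (Or.inr (Or.inr (Or.inl (⟨he, Q, hQ, hpol, heq hle (not_le_quad hm hpol)⟩)))))))))))
  have fixQuad : ∀ Q : (Fin m ⊕ Fin m → F) → F, FixesQuadForm (matrixSet H) Q →
      H ≤ quadSimilarityGroup Q := fun Q hQ g hg => ⟨1, fun v => by
    rw [Units.val_one, one_mul]; exact hQ _ (mem_matrixSet hg) v⟩
  by_cases hirr : ActsIrreducibly (matrixSet H)
  swap
  · rcases reducible_subspace hf hfix hirr with ⟨W, h0, hts, hle⟩ | ⟨W, h0, h1, hnd, hle, hlep⟩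
    · exact hTS W h0 hts hle
    have hdim := hf.finrank_perp W
    rw [hcard] at hdim
    rcases lt_trichotomy (Module.finrank F W) m with hlt | heq | hgt
    · exact hND W h0 hnd hlt hle
    · obtain ⟨D, hD, hle'⟩ := exists_halves hf h0 hnd (by omega) hle hlep
      exact hDec D hD hle'
    · refine hND (hf.perp W) (fun h => h1 ?_) (hf.isNondegenerateOn_perp hnd) (by omega) hlep
      rw [← hf.perp_perp W, h]
      exact eq_top_iff.2 fun x _ w hw => by rw [(Submodule.mem_bot F).1 hw, hf.zero_right]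
  rcases star_reduction_spanned (by omega) hf hfix hirr with
    ⟨t, k, D, hD, -, hle⟩ | ⟨k, D, hD, hk, hts, hle, -⟩ | ⟨r, K, hr, hrd, hK, hle, hadj⟩ |
    ⟨k, d, e, P, S, T, hk, hd, hkd, hS, hT, hle, hform⟩ | hab | hsp | ⟨P, hP⟩
  · exact hDec D hD hle
  · -- pairs of Lagrangians
    obtain rfl : k = m := by omega
    by_cases hodd : Odd (Fintype.card F)
    · exact hPair D hodd hD hts hle
    · obtain ⟨Q, hQ, hpol, hQH⟩ := pair_quad (h2even hodd) hH hD hts hle
      exact hQuad Q hodd hQ hpol (fixQuad Q hQH)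
  · -- extension fields
    by_cases hsa : ∀ x ∈ K, adj (RingEquiv.refl F) (Cfsg.sympForm m F) x = x
    · have hS : IsSelfAdjointFor (Cfsg.sympForm m F) K := fun x hx u v => by
        rw [hf.adj_spec, hsa x hx]
      exact Or.inr (Or.inr (Or.inr (Or.inr (Or.inl (⟨r, K, hr, hcard ▸ hrd, hK, hS, selfAdjoint_alternating hK hsa, heq hle (not_le_field hm hr.two_le hK)⟩)))))
    push Not at hsa
    obtain rfl : r = 2 := by
      rcases hr.eq_two_or_odd' with h | h
      · exact h
      · obtain ⟨x, hx, hne⟩ := hsa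
        exact absurd (adj_eq_self_of_odd hf h hK hadj hx) hne
    by_cases hodd : Odd (Fintype.card F)
    · have hclosed : IsAdjointClosedFor (Cfsg.sympForm m F) K := fun x hx =>
        ⟨_, hadj x hx, fun u v => hf.adj_spec x u v⟩
      refine Or.inr (Or.inr (Or.inr (Or.inr (Or.inr (Or.inl (⟨hodd, K, hK, hclosed, fun hS => ?_, heq hle (not_le_field hm le_rfl hK)⟩))))))
      obtain ⟨x, hx, hne⟩ := hsa
      exact hne (hf.adj_unique fun u v => hS x hx u v).symm
    · obtain ⟨Q, hQ, hpol, hQH⟩ := field_quad (by omega) (h2even hodd) hH hK hle hadj hsa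
      exact hQuad Q hodd hQ hpol (fixQuad Q hQH)
  · -- tensor decompositions
    haveI : Nonempty (Fin k) := ⟨⟨0, by omega⟩⟩
    haveI : Nonempty (Fin d) := ⟨⟨0, by omega⟩⟩
    obtain ⟨a, b, -, hSa, hTb, hab⟩ := factors_reflexive hf hS.ne_zero hT.ne_zero hform
    have hmap : ∀ {n : ℕ} (M : Matrix (Fin n) (Fin n) F), M.map (RingEquiv.refl F) = M :=
      fun M => Matrix.ext fun _ _ => rfl
    rw [hmap] at hSa hTb
    obtain ⟨i, j, hij⟩ : ∃ i j, S i j ≠ 0 := by
      by_contra hn; push Not at hn; exact hS.ne_zero (Matrix.ext hn)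
    have e1 : S j i = a * S i j := congrFun (congrFun hSa i) j
    have e2 : S i j = a * S j i := congrFun (congrFun hSa j) i
    have h3 : (a * a - 1) * S i j = 0 := by linear_combination -e2 - a * e1
    have h4 := sub_eq_zero.1 ((mul_eq_zero.1 h3).resolve_right hij)
    by_cases hodd : Odd (Fintype.card F)
    swap
    · have h2 := h2even hodd
      have hone : a = 1 ∧ b = 1 := by
        have h5 : (a - 1) * (a - 1) = 0 := by linear_combination h4 - (a - 1) * h2
        obtain rfl := sub_eq_zero.1 (mul_self_eq_zero.1 h5)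
        exact ⟨rfl, by linear_combination -hab - h2⟩
      have hSs : Sᵀ = S := by rw [hSa, hone.1, one_smul]
      have hTs : Tᵀ = T := by rw [hTb, hone.2, one_smul]
      have hdS := left_factor_alternating hf hfix hirr h2 hk (by omega) hle hS.ne_zero hT.ne_zero hform
      have hdT := left_factor_alternating hf hfix hirr h2 hd (by omega)
        (hle.trans (tensorProductSubgroup_swap e P)) hT.ne_zero hS.ne_zero (formTensor_swap hform)
      obtain ⟨Q, hQ, hpol, hQH, -⟩ := exists_tensor_quad h2 hsymp hfix hle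
        (formOf_self_of_diag h2 hSs hdS) (formOf_self_of_diag h2 hTs hdT) hform
      exact hQuad Q hodd hQ hpol (fixQuad Q hQH)
    have h2 := h2odd hodd
    have hmember : ∀ {n₁ n₂ : ℕ} {e : (Fin m ⊕ Fin m) ≃ Fin n₁ × Fin n₂}
        {S : Matrix (Fin n₁) (Fin n₁) F} {T : Matrix (Fin n₂) (Fin n₂) F}, 2 ≤ n₁ → 2 ≤ n₂ →
        IsUnit S → IsUnit T → Sᵀ = -S → Tᵀ = T →
        H ≤ tensorProductSubgroup n₁ n₂ e P →
        (∀ x y : Fin n₁ × Fin n₂ → F, Cfsg.sympForm m F (mat P *ᵥ (x ∘ e)) (mat P *ᵥ (y ∘ e)) =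
          formOfGram (RingEquiv.refl F) (S ⊗ₖ T) x y) →
        MaximalCases m F H := by
      intro n₁ n₂ e S T h1 h12 hS hT hSs hTs hle hform
      rcases (show n₂ = 2 ∨ 3 ≤ n₂ by omega) with rfl | h3
      · rcases binary_factor_dichotomy hf h2 hfix hirr hT hS hTs
          (hle.trans (tensorProductSubgroup_swap e P)) (formTensor_swap hform) with
          ⟨n, D, hD, hn, hts, hle'⟩ | ⟨K, hK, hcl, hnsa, hle', -⟩
        · obtain rfl : n = m := by omega
          exact hPair D hodd hD hts hle'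
        · exact Or.inr (Or.inr (Or.inr (Or.inr (Or.inr (Or.inl (⟨hodd, K, hK, hcl, hnsa, heq hle' (not_le_field hm le_rfl hK)⟩))))))
      · have hstr : IsTensorFormStructure id (Cfsg.sympForm m F) (formOf (RingEquiv.refl F) S)
            (formOf (RingEquiv.refl F) T) e P := ⟨1, one_ne_zero, fun x y => by
          rw [one_mul, gramMatrix_formOf, gramMatrix_formOf]
          exact hform x y⟩
        have hne := not_le_tensor h1 h12 e P
        have hnn : n₁ * n₂ = 2 * m := by
          rw [← hcard, Fintype.card_congr e, Fintype.card_prod, Fintype.card_fin, Fintype.card_fin]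
        exact Or.inr (Or.inr (Or.inr (Or.inr (Or.inr (Or.inr (Or.inl (⟨hodd, n₁, n₂, e, P, _, _, h1, h3, hnn,
          isSymplecticForm_formOf hS hSs (formOf_self_of_skew h2 hSs),
          isSymmetricForm_formOf hT hTs, hstr, heq hle hne⟩)))))))
    rcases mul_self_eq_one_iff.1 h4 with rfl | rfl
    · refine hmember hd hk hT hS ?_ (by rw [hSa, one_smul])
        (hle.trans (tensorProductSubgroup_swap e P)) (formTensor_swap hform)
      rw [hTb, show b = -1 by linear_combination -hab, neg_one_smul]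
    · refine hmember hk hd hS hT (by rw [hSa, neg_one_smul]) ?_ hle hform
      rw [hTb, show b = 1 by linear_combination hab, one_smul]
  · -- socles abelian modulo scalars
    rcases symplectic_socle (by omega) hH hab with ⟨F₁, s, P, c, hs, hc, hc0, hP, hle⟩ |
      ⟨R, p, k, h1, h2, h3, h4, h5, h6, h7, h8, h9, h10, hle⟩
    · exact Or.inr (Or.inr (Or.inr (Or.inr (Or.inr (Or.inr (Or.inr (Or.inl (⟨F₁, s, P, c, hs, hc, hc0, hP, heq hle (not_le_subfield (by omega) (subfield_ne_top hs hc) P)⟩))))))))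
    · exact Or.inr (Or.inr (Or.inr (Or.inr (Or.inr (Or.inr (Or.inr (Or.inr (Or.inl (⟨R, p, k, h1, h2, h3, h4, h5, h6, h7, h8, h9, hcard ▸ h10.symm,
        heq hle (not_le_normalizer hm h1 h2 h3 (two_ne_zero_of_odd (h6.symm ▸ h5)))⟩)))))))))
  · -- tensor powers
    obtain ⟨d, t, e, P, B, hd, ht, hn, hB⟩ := exists_slotPower hf hfix hsp
    obtain ⟨a, ha, har⟩ := hB.refl
    simp only [RingEquiv.refl_apply] at ha har
    obtain ⟨c, hc, hform⟩ := hB.form
    have hbil : IsBilinearForm B :=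
      ⟨hB.sesq.add_left, hB.sesq.smul_left, hB.sesq.add_right, hB.sesq.smul_right⟩
    by_cases hodd : Odd (Fintype.card F)
    · have h2 := h2odd hodd
      obtain ⟨x₀, hx₀⟩ := (hB.nondegenerate (Pi.single ⟨0, by omega⟩ 1) (by simp)).1
      have hat : a ^ t = -1 := by
        have e1 := hf.refl (ptmul e P fun _ => x₀) (ptmul e P fun _ => Pi.single ⟨0, by omega⟩ 1)
        rw [RingEquiv.refl_apply, hform, hform, Finset.prod_const, Finset.prod_const,
          Finset.card_fin, har x₀, mul_pow] at e1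
        exact mul_right_cancel₀ (mul_ne_zero hc (pow_ne_zero t hx₀))
          (by linear_combination e1)
      obtain rfl : a = -1 := by
        rcases mul_self_eq_one_iff.1 ha with rfl | h
        · rw [one_pow] at hat
          exact absurd (by linear_combination hat : (2 : F) = 0) h2
        · exact h
      have hto : Odd t := by
        rcases Nat.even_or_odd t with he | ho
        · rw [he.neg_one_pow] at hat
          exact absurd (by linear_combination hat : (2 : F) = 0) h2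
        · exact ho
      have hBs : IsSymplecticForm B := ⟨hbil, fun u v => by rw [har v u]; ring, fun x =>
        (mul_eq_zero.1 (by linear_combination har x x : (2 : F) * B x x = 0)).resolve_left h2,
        hB.nondegenerate⟩
      have hex : ¬ (Fintype.card F = 3 ∧ d = 2) := by
        rintro ⟨hq, rfl⟩
        obtain ⟨G, hG, hG0, -⟩ := hB.perfect
        exact hG0 (perfect_GL_two_three hq hG)
      exact Or.inr (Or.inr (Or.inr (Or.inr (Or.inr (Or.inr (Or.inr (Or.inr (Or.inr (Or.inl (⟨hodd, d, t, e, P, B, hto, by rcases hto with ⟨u, hu⟩; omega, hd, hex,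
        hn.symm.trans hcard, hBs, hB.structure' hf, heq hB.le_wreath (not_le_wreath hd ht e P)⟩))))))))))
    · have hB0 : ∀ x, B x x = 0 := fun x => by
        have e1 := hform (fun _ => x) (fun _ => x)
        rw [omega_self, Finset.prod_const, Finset.card_fin] at e1
        exact eq_zero_of_pow_eq_zero ((mul_eq_zero.1 e1.symm).resolve_left hc)
      obtain ⟨Q, hQ, hpol, hQH⟩ := exists_power_quad (h2even hodd) ht hsymp hfix hB hB0
      exact hQuad Q hodd hQ hpol (fixQuad Q hQH)
  · -- almost simple groups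
    have hPfix : FixesForm (matrixSet P) (Cfsg.sympForm m F) := fun s hs => hfix s (Set.image_mono hP.le hs)
    by_cases hreal : ∃ F₀ : Subfield F, F₀ ≠ ⊤ ∧ RealisableOver F₀ (matrixSet P)
    · obtain ⟨F₀, h0, hreal⟩ := hreal
      obtain ⟨F₁, r, B, ζ, hr, hc, hζ, hrat, hle⟩ :=
        AschbacherForms.exists_form_subfield hf h0 hP.normal hP.absIrred hPfix hreal
      exact Or.inr (Or.inr (Or.inr (Or.inr (Or.inr (Or.inr (Or.inr (Or.inl (⟨F₁, r, B, ζ, hr, hc, hζ, hrat, heq hle (not_le_subfield (by omega) (subfield_ne_top hr hc) B)⟩))))))))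
    by_cases hQ : ∃ Q : (Fin m ⊕ Fin m → F) → F, IsNondegenerateQuadraticForm Q ∧
        FixesQuadForm (matrixSet P) Q
    · obtain ⟨Q, hQ, hQP⟩ := hQ
      have hpolfix : FixesForm (matrixSet P) (QuadraticMap.polar Q) := fun s hs u v => by
        simp only [QuadraticMap.polar, ← Matrix.mulVec_add, hQP s hs]
      obtain ⟨c, hc⟩ := fixesForm_smul_eq hf (isSesq_of_bilinear hQ.polar_bilinear) hP.absIrred hPfix hpolfix
      obtain ⟨x₁, hx₁⟩ := (hQ.nondegenerate (Pi.single (Sum.inl ⟨0, by omega⟩) 1)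
        (fun h => by simpa using congrFun h (Sum.inl ⟨0, by omega⟩))).1
      have hc0 : c ≠ 0 := by
        rintro rfl
        exact hx₁ (by rw [hc, zero_mul])
      by_cases hodd : Odd (Fintype.card F)
      · exfalso
        have e1 := hc x₁ (Pi.single (Sum.inl ⟨0, by omega⟩) 1)
        have e2 := hc (Pi.single (Sum.inl ⟨0, by omega⟩) 1) x₁
        rw [QuadraticMap.polar_comm, hf.refl x₁, RingEquiv.refl_apply] at e2
        exact hx₁ ((mul_eq_zero.1 (by linear_combination e1 + e2 :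
          (2 : F) * QuadraticMap.polar Q x₁ (Pi.single (Sum.inl ⟨0, by omega⟩) 1) = 0)).resolve_left (h2odd hodd))
      · let Q' : (Fin m ⊕ Fin m → F) → F := fun v => c⁻¹ * Q v
        have hpol : ∀ u v, QuadraticMap.polar Q' u v = Cfsg.sympForm m F u v := by
          intro u v
          have h1 := hc u v
          simp only [QuadraticMap.polar, Q'] at h1 ⊢
          rw [← mul_sub, ← mul_sub, h1, ← mul_assoc, inv_mul_cancel₀ hc0, one_mul]
        have hQ' : IsNondegenerateQuadraticForm Q' :=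
          isQuadraticForm_of_polar hsymp.bilinear hf.nondegenerate
            (fun a v => by simp only [Q', hQ.smul]; ring) hpol
        have hQ'P : FixesQuadForm (matrixSet P) Q' := fun s hs v => by
          simp only [Q', hQP s hs]
        exact hQuad Q' hodd hQ' hpol
          (normalizer_le_quadSimilarityGroup (by omega) hQ' hP.absIrred hQ'P hP.normal)
    refine Or.inr (Or.inr (Or.inr (Or.inr (Or.inr (Or.inr (Or.inr (Or.inr (Or.inr (Or.inr (Or.inr (⟨P, hP.toResidualCore fun F₀ h0 hr => hreal ⟨F₀, h0, hr⟩, hQ, ?_⟩)))))))))))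
    rintro ⟨σ, f, hf', hfix'⟩
    exact hreal (AschbacherForms.realisable_of_two_forms hf hf' hP.absIrred hPfix hfix')

end CfsgLib.AschbacherSp
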