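import Cfsg.Agent.AschbacherSp.NotLe
import Cfsg.Agent.MaxSub.TensorFrame
import Cfsg.Agent.MaxSub.SymplecticBasic

/-!
The stabiliser of a tensor product of an alternating plane and a symmetric four-space of plus type is not maximal:
it lies in the stabiliser of a third tensor power.
-/

set_option autoImplicit false
set_option linter.unusedSectionVars false
set_option linter.style.haveILetI false
set_option maxHeartbeats 1000000

namespace CfsgLib.AschbacherSp

attribute [-simp] RingEquiv.coe_refl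

open Matrix Cfsg.Geo CfsgLib.Aschbacher CfsgLib.AschbacherForms CfsgLib.TensorNonmax
  CfsgLib.AschbacherSymplectic

variable {F : Type*} [Field F]

/-- The determinant of two vectors. -/
def det2 (u v : Fin 2 → F) : F := u 0 * v 1 - u 1 * v 0

theorem det2_smul_right (u v : Fin 2 → F) (c : F) : det2 u (c • v) = c * det2 u v := by
  simp [det2]; ring

theorem det2_smul_left (u v : Fin 2 → F) (c : F) : det2 (c • u) v = c * det2 u v := by
  simp [det2]; ring

theorem det2_self (u : Fin 2 → F) : det2 u u = 0 := by simp [det2]; ring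

theorem det2_swap (u v : Fin 2 → F) : det2 v u = -det2 u v := by simp [det2]; ring

theorem parallel_of_det2 {u v : Fin 2 → F} (hu : u ≠ 0) (h : det2 u v = 0) : ∃ c : F, v = c • u := by
  unfold det2 at h
  by_cases h0 : u 0 = 0
  · have h1 : u 1 ≠ 0 := fun h1 => hu (funext fun i => by fin_cases i <;> assumption)
    rw [h0, zero_mul, zero_sub, neg_eq_zero] at h
    refine ⟨v 1 / u 1, funext fun i => ?_⟩
    fin_cases i
    · simp [h0, (mul_eq_zero.1 h).resolve_left h1]
    · simp [h1]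
  · refine ⟨v 0 / u 0, funext fun i => ?_⟩
    fin_cases i
    · simp [h0]
    · simp only [Fin.mk_one, Pi.smul_apply, smul_eq_mul]
      field_simp
      linear_combination h

local notation "M22" => (Fin 2 → Fin 2 → F)

/-- The tensor of two vectors. -/
def otimes (u v : Fin 2 → F) : M22 := fun j k => u j * v k

/-- The polar form of the determinant. -/
def beta (M N : M22) : F := M 0 0 * N 1 1 + M 1 1 * N 0 0 - M 0 1 * N 1 0 - M 1 0 * N 0 1

theorem beta_otimes (u v u' v' : Fin 2 → F) : beta (otimes u v) (otimes u' v') = det2 u u' * det2 v v' := by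
  simp [beta, otimes, det2]; ring

theorem otimes_of_beta {M : M22} (h2 : (2 : F) ≠ 0) (h : beta M M = 0) : ∃ u v, M = otimes u v := by
  have h' : M 0 0 * M 1 1 = M 0 1 * M 1 0 := mul_left_cancel₀ h2 (by unfold beta at h; linear_combination h)
  by_cases h0 : M 0 0 = 0
  · rw [h0, zero_mul] at h'
    rcases mul_eq_zero.1 h'.symm with h1 | h1
    · exact ⟨![0, 1], ![M 1 0, M 1 1], funext fun j => funext fun k => by
        fin_cases j <;> fin_cases k <;> simp [otimes, h0, h1]⟩
    · exact ⟨![M 0 1, M 1 1], ![0, 1], funext fun j => funext fun k => by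
        fin_cases j <;> fin_cases k <;> simp [otimes, h0, h1]⟩
  · refine ⟨![1, M 1 0 / M 0 0], ![M 0 0, M 0 1], funext fun j => funext fun k => ?_⟩
    fin_cases j <;> fin_cases k <;> simp [otimes, h0]
    field_simp
    linear_combination h'

/-- A similarity of the determinant which keeps the first factor on two neighbours is a tensor. -/
theorem exists_factors_aux {g : M22 →ₗ[F] M22} {μ : F} (hμ : μ ≠ 0) (hg : ∀ M N, beta (g M) (g N) = μ * beta M N)
    (u v : Fin 2 → Fin 2 → Fin 2 → F)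
    (himg : ∀ j k, g (otimes (Pi.single j 1) (Pi.single k 1)) = otimes (u j k) (v j k))
    (hpar : det2 (u 0 0) (u 0 1) = 0) :
    ∃ A B : Matrix (Fin 2) (Fin 2) F, ∀ y z, g (otimes y z) = otimes (A *ᵥ y) (B *ᵥ z) := by
  have hb : ∀ j k j' k', det2 (u j k) (u j' k') * det2 (v j k) (v j' k') =
      μ * beta (otimes (Pi.single j (1 : F)) (Pi.single k 1)) (otimes (Pi.single j' 1) (Pi.single k' 1)) := by
    intro j k j' k'
    rw [← beta_otimes, ← himg, ← himg, hg]
  have h0011 : det2 (u 0 0) (u 1 1) * det2 (v 0 0) (v 1 1) = μ := by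
    rw [hb]; simp [beta, otimes]
  have h0110 : det2 (u 0 1) (u 1 0) * det2 (v 0 1) (v 1 0) = -μ := by
    rw [hb]; simp [beta, otimes]
  have h0010 : det2 (u 0 0) (u 1 0) * det2 (v 0 0) (v 1 0) = 0 := by rw [hb]; simp [beta, otimes]
  have h0111 : det2 (u 0 1) (u 1 1) * det2 (v 0 1) (v 1 1) = 0 := by rw [hb]; simp [beta, otimes]
  have h1011 : det2 (u 1 0) (u 1 1) * det2 (v 1 0) (v 1 1) = 0 := by rw [hb]; simp [beta, otimes]
  have hu00 : u 0 0 ≠ 0 := fun h => hμ (by rw [← h0011, h]; simp [det2])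
  have hv00 : v 0 0 ≠ 0 := fun h => hμ (by rw [← h0011, h]; simp [det2])
  obtain ⟨l, hl⟩ := parallel_of_det2 hu00 hpar
  have hl0 : l ≠ 0 := fun h => hμ (neg_eq_zero.1 (by rw [← h0110, hl, h]; simp [det2]))
  have hu0010 : det2 (u 0 0) (u 1 0) ≠ 0 := fun h => hμ (neg_eq_zero.1 (by
    rw [← h0110, hl, det2_smul_left, h, mul_zero, zero_mul]))
  obtain ⟨n, hn⟩ := parallel_of_det2 hv00 ((mul_eq_zero.1 h0010).resolve_left hu0010)
  have hn0 : n ≠ 0 := fun h => hμ (neg_eq_zero.1 (by rw [← h0110, hn, h]; simp [det2]))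
  have hv01 : v 0 1 ≠ 0 := fun h => hμ (neg_eq_zero.1 (by rw [← h0110, h]; simp [det2]))
  have hu0111 : det2 (u 0 1) (u 1 1) ≠ 0 := by
    rw [hl, det2_smul_left]
    exact mul_ne_zero hl0 fun h => hμ (by rw [← h0011, h, zero_mul])
  obtain ⟨n', hn'⟩ := parallel_of_det2 hv01 ((mul_eq_zero.1 h0111).resolve_left hu0111)
  have hv1011 : det2 (v 1 0) (v 1 1) ≠ 0 := by
    rw [hn, det2_smul_left]
    exact mul_ne_zero hn0 fun h => hμ (by rw [← h0011, h, mul_zero])
  have hu10 : u 1 0 ≠ 0 := fun h => hu0010 (by rw [h]; simp [det2])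
  obtain ⟨l', hl'⟩ := parallel_of_det2 hu10 ((mul_eq_zero.1 h1011).resolve_right hv1011)
  have hprod : n' * l' = n * l := by
    have e1 : n' * l' * (det2 (u 0 0) (u 1 0) * det2 (v 0 0) (v 0 1)) = μ := by
      rw [← h0011, hl', hn', det2_smul_right, det2_smul_right]; ring
    have e2 : n * l * (det2 (u 0 0) (u 1 0) * det2 (v 0 0) (v 0 1)) = μ := by
      rw [hl, hn, det2_smul_left, det2_smul_right, det2_swap (v 0 0) (v 0 1)] at h0110
      linear_combination -h0110
    exact mul_right_cancel₀ (fun h => hμ (by rw [← e2, h, mul_zero])) (e1.trans e2.symm)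
  let A : Matrix (Fin 2) (Fin 2) F := Matrix.of fun i j => ![u 0 0 i, n * u 1 0 i] j
  let B : Matrix (Fin 2) (Fin 2) F := Matrix.of fun i j => ![v 0 0 i, l * v 0 1 i] j
  refine ⟨A, B, fun y z => ?_⟩
  have hyz : otimes y z = ∑ j, ∑ k, (y j * z k) • otimes (Pi.single j (1 : F)) (Pi.single k 1) := by
    funext j k
    fin_cases j <;> fin_cases k <;> simp [otimes, Fin.sum_univ_two]
  rw [hyz]
  simp only [map_sum, map_smul, himg]
  funext a b
  simp only [Fin.sum_univ_two, Pi.add_apply, Pi.smul_apply, smul_eq_mul, otimes, A, B, Matrix.mulVec, dotProduct,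
    Matrix.of_apply, Matrix.cons_val_zero, Matrix.cons_val_one]
  rw [hl, hn, hn', hl']
  simp only [Pi.smul_apply, smul_eq_mul]
  linear_combination (y 1 * z 1 * u 1 0 a * v 0 1 b) * hprod

/-- A similarity of the determinant preserves the pair of factors. -/
theorem exists_factors (h2 : (2 : F) ≠ 0) {g : M22 →ₗ[F] M22} {μ : F} (hμ : μ ≠ 0)
    (hg : ∀ M N, beta (g M) (g N) = μ * beta M N) :
    ∃ A B : Matrix (Fin 2) (Fin 2) F, (∀ y z, g (otimes y z) = otimes (A *ᵥ y) (B *ᵥ z)) ∨
      ∀ y z, g (otimes y z) = otimes (B *ᵥ z) (A *ᵥ y) := by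
  have hex : ∀ j k, ∃ u v : Fin 2 → F, g (otimes (Pi.single j 1) (Pi.single k 1)) = otimes u v := fun j k =>
    otimes_of_beta h2 (by rw [hg, beta_otimes, det2_self, zero_mul, mul_zero])
  choose u v himg using hex
  have h0 : det2 (u 0 0) (u 0 1) * det2 (v 0 0) (v 0 1) = 0 := by
    rw [← beta_otimes, ← himg, ← himg, hg]; simp [beta, otimes]
  rcases mul_eq_zero.1 h0 with h | h
  · obtain ⟨A, B, hAB⟩ := exists_factors_aux hμ hg u v himg h
    exact ⟨A, B, Or.inl hAB⟩
  · let θ : M22 →ₗ[F] M22 :=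
      { toFun := fun M j k => M k j
        map_add' := fun _ _ => rfl
        map_smul' := fun _ _ => rfl }
    obtain ⟨A, B, hAB⟩ := exists_factors_aux (g := θ ∘ₗ g) hμ (fun M N => by
      rw [← hg]
      show beta (fun j k => g M k j) (fun j k => g N k j) = _
      simp only [beta]; ring) v u (fun j k => by
      rw [LinearMap.comp_apply, himg]
      funext a b
      show otimes (u j k) (v j k) b a = otimes (v j k) (u j k) a b
      simp only [otimes]; ring) h
    refine ⟨A, B, Or.inr fun y z => funext fun a => funext fun b => ?_⟩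
    have h1 := congrFun (congrFun (hAB y z) b) a
    simp only [otimes] at h1 ⊢
    rw [mul_comm]
    exact h1

/-- A symmetric four-space of plus type is the tensor square of an alternating plane. -/
theorem exists_det_basis (h2 : (2 : F) ≠ 0) {f : (Fin 4 → F) → (Fin 4 → F) → F} (hf : IsSymmetricForm f)
    (hplus : IsPlusTypeOn (fun v => f v v) ⊤) :
    ∃ Ψ : M22 ≃ₗ[F] (Fin 4 → F), ∀ M N, f (Ψ M) (Ψ N) = beta M N := by
  obtain ⟨U, -, hU, hUd⟩ := hplus
  rw [finrank_top, Module.finrank_fin_fun] at hUd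
  have hb := hf.bilinear
  let e := Module.finBasisOfFinrankEq F U (show Module.finrank F U = 2 by omega)
  have huv : ∀ x ∈ U, ∀ y ∈ U, f x y = 0 := fun x hx y hy => by
    have h1 := hU _ (U.add_mem hx hy)
    simp only [hb.add_left, hb.add_right, hf.symm y x] at h1
    have hxx := hU x hx
    have hyy := hU y hy
    simp only at hxx hyy
    exact (mul_eq_zero.1 (by linear_combination h1 - hxx - hyy : (2 : F) * f x y = 0)).resolve_left h2
  have hind := (LinearIndependent.map' e.linearIndependent U.subtype (Submodule.ker_subtype U))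
  have hsep : ∀ i j, i ≠ j → ∃ y, f (e i).1 y = 1 ∧ f (e j).1 y = 0 := by
    intro i j hij
    have hne : ∀ k, (e k).1 ≠ 0 := fun k => hind.ne_zero k
    obtain ⟨z, hz⟩ : ∃ z, f (e j).1 z = 1 := by
      obtain ⟨-, z, hz⟩ := hf.nondegenerate _ (hne j)
      exact ⟨(f (e j).1 z)⁻¹ • z, by rw [hb.smul_right, inv_mul_cancel₀ hz]⟩
    by_contra hn
    push Not at hn
    have hzero : ∀ x, f ((e i).1 + (-f (e i).1 z) • (e j).1) x = 0 := fun x => by
      rw [hb.add_left, hb.smul_left]
      by_contra hx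
      set y := x + (-f (e j).1 x) • z with hy
      have hy0 : f (e j).1 y = 0 := by rw [hy, hb.add_right, hb.smul_right, hz]; ring
      have hyi : f (e i).1 y ≠ 0 := by
        rw [hy, hb.add_right, hb.smul_right]
        intro h; exact hx (by linear_combination h)
      exact hn ((f (e i).1 y)⁻¹ • y) (by rw [hb.smul_right, inv_mul_cancel₀ hyi])
        (by rw [hb.smul_right, hy0, mul_zero])
    have hw0 : (e i).1 + (-f (e i).1 z) • (e j).1 = 0 := by
      by_contra h
      obtain ⟨-, x, hx⟩ := hf.nondegenerate _ h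
      exact hx (hzero x)
    have h1 := Fintype.linearIndependent_iff.1 hind
      (Pi.single i 1 + Pi.single j (-f (e i).1 z)) (by
        rw [← hw0]
        fin_cases i <;> fin_cases j <;> simp_all [Fin.sum_univ_two, add_comm]) i
    simp [hij] at h1
  obtain ⟨y0, a00, a10⟩ := hsep 0 1 (by decide)
  obtain ⟨y1, a11, a01⟩ := hsep 1 0 (by decide)
  set u0 := (e 0).1
  set u1 := (e 1).1
  have q00 := huv u0 (e 0).2 u0 (e 0).2
  have q01 := huv u0 (e 0).2 u1 (e 1).2
  have q11 := huv u1 (e 1).2 u1 (e 1).2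
  set w0 := y0 + (-(f y0 y0 / 2)) • u0 with hw0
  set w1 := y1 + (-(f y1 y1 / 2)) • u1 + (-f y1 w0) • u0 with hw1
  have c00 : f u0 w0 = 1 := by rw [hw0, hb.add_right, hb.smul_right, q00, a00]; ring
  have c10 : f u1 w0 = 0 := by rw [hw0, hb.add_right, hb.smul_right, hf.symm u1 u0, q01, a10]; ring
  have c01 : f u0 w1 = 0 := by
    rw [hw1, hb.add_right, hb.add_right, hb.smul_right, hb.smul_right, q01, q00, a01]; ring
  have c11 : f u1 w1 = 1 := by
    rw [hw1, hb.add_right, hb.add_right, hb.smul_right, hb.smul_right, q11, hf.symm u1 u0, q01, a11]; ring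
  have d00 : f w0 w0 = 0 := by
    simp only [hw0, hb.add_left, hb.add_right, hb.smul_left, hb.smul_right, q00, a00, hf.symm y0 u0]
    field_simp; ring
  have d10 : f w1 w0 = 0 := by
    simp only [hw1, hb.add_left, hb.smul_left, c00, c10]
    ring
  have d11 : f w1 w1 = 0 := by
    have h' : f w1 w1 = f w1 y1 + (-(f y1 y1 / 2)) * f w1 u1 + (-f y1 w0) * f w1 u0 := by
      conv_lhs => arg 2; rw [hw1]
      rw [hb.add_right, hb.add_right, hb.smul_right, hb.smul_right]
    rw [h', hf.symm w1 u1, hf.symm w1 u0, c11, c01, hw1, hb.add_left, hb.add_left, hb.smul_left, hb.smul_left,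
      a11, a01]
    field_simp; ring
  let Ψ₀ : M22 →ₗ[F] (Fin 4 → F) :=
    { toFun := fun M => M 0 0 • u0 + M 0 1 • u1 + M 1 0 • (-w1) + M 1 1 • w0
      map_add' := fun M N => by simp only [Pi.add_apply, add_smul]; abel
      map_smul' := fun c M => by simp only [Pi.smul_apply, smul_eq_mul, RingHom.id_apply, smul_add, mul_smul] }
  have hform : ∀ M N, f (Ψ₀ M) (Ψ₀ N) = beta M N := fun M N => by
    have hn : ∀ x y, f (-x) y = -f x y ∧ f x (-y) = -f x y := fun x y => by
      constructor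
      · rw [← neg_one_smul F x, hb.smul_left]; ring
      · rw [← neg_one_smul F y, hb.smul_right]; ring
    show f (_ + _) (_ + _) = _
    simp only [hb.add_left, hb.add_right, hb.smul_left, hb.smul_right, (hn _ _).1, (hn _ _).2, q00, q01, q11,
      c00, c10, c01, c11, d00, d10, d11, hf.symm u1 u0, hf.symm w0 u0, hf.symm w0 u1, hf.symm w1 u0, hf.symm w1 u1,
      hf.symm w0 w1, beta]
    ring
  have hinj : Function.Injective Ψ₀ := (injective_iff_map_eq_zero Ψ₀).2 fun M hM => by
    funext j k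
    have h1 := hform M (fun a b => if a = 1 - j ∧ b = 1 - k then 1 else 0)
    rw [hM] at h1
    have hz : ∀ y, f 0 y = 0 := fun y => by rw [← zero_smul F (0 : Fin 4 → F), hb.smul_left, zero_mul]
    rw [hz] at h1
    fin_cases j <;> fin_cases k <;> simpa [beta] using h1.symm
  exact ⟨LinearEquiv.ofBijective Ψ₀ ⟨hinj, (LinearMap.injective_iff_surjective_of_finrank_eq_finrank
    (by simp [Module.finrank_pi_fintype])).1 hinj⟩, hform⟩

variable [Fintype F]

/-- The stabiliser of a tensor product with a plus-type factor is not maximal. -/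
theorem not_maximal_plus_tensor (hodd : Odd (Fintype.card F))
    {e : (Fin 4 ⊕ Fin 4) ≃ Fin 2 × Fin 4} {P : GL (Fin 4 ⊕ Fin 4) F}
    {f₁ : (Fin 2 → F) → (Fin 2 → F) → F} {f₂ : (Fin 4 → F) → (Fin 4 → F) → F}
    (h₁ : IsSymplecticForm f₁) (h₂ : IsSymmetricForm f₂)
    (hplus : IsPlusTypeOn (fun v : Fin 4 → F => f₂ v v) ⊤)
    (hstr : IsTensorFormStructure id (Cfsg.sympForm 4 F) f₁ f₂ e P) :
    ∃ L : Subgroup (GL (Fin 4 ⊕ Fin 4) F),
      tensorProductSubgroup 2 4 e P ⊓ Cfsg.spGL 4 F < L ∧ L < Cfsg.spGL 4 F := by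
  classical
  have hf := isRefl (m := 4) (F := F)
  have h2 : (2 : F) ≠ 0 := MaxSub.two_ne_zero_of_odd hodd
  obtain ⟨Ψ, hΨ⟩ := exists_det_basis h2 h₂ hplus
  -- the alternating plane
  let a₁ : F := f₁ (Pi.single 0 1) (Pi.single 1 1)
  have hf₁ : ∀ x y, f₁ x y = a₁ * det2 x y := fun x y => by
    have hx : ∀ z : Fin 2 → F, z = z 0 • Pi.single 0 1 + z 1 • Pi.single 1 1 := fun z =>
      funext fun i => by fin_cases i <;> simp
    conv_lhs => rw [hx x, hx y]
    simp only [h₁.bilinear.add_left, h₁.bilinear.add_right, h₁.bilinear.smul_left, h₁.bilinear.smul_right,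
      h₁.alternating, h₁.skew (Pi.single 0 1) (Pi.single 1 1), det2, a₁]
    ring
  have ha₁ : a₁ ≠ 0 := fun h0 => by
    obtain ⟨-, y, hy⟩ := h₁.nondegenerate (Pi.single 0 (1 : F)) (by simp)
    exact hy (by rw [hf₁, h0, zero_mul])
  obtain ⟨c, hc, hform⟩ := MaxSub.form_tmul_sesq (σ := RingEquiv.refl F) (fun _ => rfl)
    (MaxSub.sesqForm_of_symplectic h₁)
    ⟨h₂.bilinear.add_left, h₂.bilinear.smul_left, h₂.bilinear.add_right, h₂.bilinear.smul_right, h₂.nondegenerate⟩ hstr
  -- the third power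
  let φ : (Fin 3 → Fin 2) ≃ Fin 2 × Fin 2 × Fin 2 :=
    ⟨fun a => (a 0, a 1, a 2), fun p => ![p.1, p.2.1, p.2.2],
      fun a => by funext i; fin_cases i <;> rfl, fun p => rfl⟩
  let e' : (Fin 4 ⊕ Fin 4) ≃ (Fin 3 → Fin 2) :=
    e.trans ((Equiv.prodCongr (Equiv.refl _) (finProdFinEquiv (m := 2) (n := 2)).symm).trans φ.symm)
  let bvec : (Fin 3 → Fin 2) → (Fin 4 ⊕ Fin 4 → F) := fun a =>
    tmul e P (Pi.single (a 0) 1) (Ψ (otimes (Pi.single (a 1) 1) (Pi.single (a 2) 1)))
  let T : (Fin 4 ⊕ Fin 4 → F) →ₗ[F] (Fin 4 ⊕ Fin 4 → F) :=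
    { toFun := fun x => ∑ a, x (e'.symm a) • bvec a
      map_add' := fun x y => by simp only [Pi.add_apply, add_smul, Finset.sum_add_distrib]
      map_smul' := fun l x => by simp only [Pi.smul_apply, smul_eq_mul, mul_smul, Finset.smul_sum, RingHom.id_apply] }
  let tri : (Fin 3 → Fin 2 → F) → (Fin 4 ⊕ Fin 4 → F) := fun xs => tmul e P (xs 0) (Ψ (otimes (xs 1) (xs 2)))
  have hT : ∀ xs : Fin 3 → Fin 2 → F, T (fun i => ∏ s, xs s (e' i s)) = tri xs := by
    intro xs
    show ∑ a, (∏ s, xs s (e' (e'.symm a) s)) • bvec a = _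
    simp only [Equiv.apply_symm_apply]
    have hx : ∀ z : Fin 2 → F, z = ∑ j, z j • Pi.single j (1 : F) := fun z =>
      funext fun i => by fin_cases i <;> simp [Fin.sum_univ_two]
    have hyz : otimes (xs 1) (xs 2) = ∑ j, ∑ k, (xs 1 j * xs 2 k) • otimes (Pi.single j (1 : F)) (Pi.single k 1) := by
      funext j k
      fin_cases j <;> fin_cases k <;> simp [otimes, Fin.sum_univ_two]
    have hφ : ∀ p, φ.symm p = ![p.1, p.2.1, p.2.2] := fun p => rfl
    rw [← φ.symm.sum_comp]
    simp only [hφ, tri]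
    rw [hyz]
    conv_rhs => rw [hx (xs 0)]
    simp only [map_add, map_smul, LinearMap.add_apply, LinearMap.smul_apply, Fintype.sum_prod_type, bvec,
      Fin.prod_univ_three, Matrix.cons_val_zero, Matrix.cons_val_one, Matrix.cons_val,
      Fin.sum_univ_two, smul_add, add_smul, smul_smul]
    module
  have hsurj : Function.Surjective T := by
    rw [← LinearMap.range_eq_top, eq_top_iff, ← span_tmul e P, Submodule.span_le]
    rintro _ ⟨x, y, rfl⟩
    obtain ⟨M, rfl⟩ := Ψ.surjective y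
    have hM : M = otimes (Pi.single 0 1) (M 0) + otimes (Pi.single 1 1) (M 1) := funext fun j => funext fun k => by
      fin_cases j <;> simp [otimes]
    rw [hM, map_add, map_add]
    refine add_mem ⟨_, hT ![x, Pi.single 0 1, M 0]⟩ ⟨_, hT ![x, Pi.single 1 1, M 1]⟩
  have hTinj : Function.Injective T :=
    (LinearMap.injective_iff_surjective_of_finrank_eq_finrank rfl).2 hsurj
  have hunit : IsUnit (LinearMap.toMatrix' T) := by
    rw [← Matrix.mulVec_injective_iff_isUnit]
    intro x y hxy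
    exact hTinj (by simpa [LinearMap.toMatrix'_mulVec] using hxy)
  let P' : GL (Fin 4 ⊕ Fin 4) F := hunit.unit
  have hpt : ∀ xs, ptmul e' P' xs = tri xs := fun xs => by
    rw [ptmul, cvec_apply, ← hT]
    exact LinearMap.toMatrix'_mulVec T _
  have hfpt : ∀ xs ys, Cfsg.sympForm 4 F (ptmul e' P' xs) (ptmul e' P' ys) =
      c * a₁ * ∏ s, det2 (xs s) (ys s) := fun xs ys => by
    rw [hpt, hpt, hform, hf₁, hΨ, beta_otimes, Fin.prod_univ_three]
    ring
  -- the stabiliser of the tensor product lies in the wreath stabiliser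
  have hle : tensorProductSubgroup 2 4 e P ⊓ Cfsg.spGL 4 F ≤ tensorWreathSubgroup 2 3 e' P' ⊓ Cfsg.spGL 4 F := by
    rintro g ⟨hgT, hgS⟩
    refine ⟨?_, hgS⟩
    obtain ⟨a, b, hab⟩ := TensorNonmax.mem_tensorProductSubgroup hgT
    have hiso : ∀ x x' y y', f₁ (mat a *ᵥ x) (mat a *ᵥ x') * f₂ (mat b *ᵥ y) (mat b *ᵥ y') = f₁ x x' * f₂ y y' := by
      intro x x' y y'
      refine mul_left_cancel₀ hc ?_
      rw [← hform, ← hform, ← hab, ← hab]
      exact MaxSub.mem_spGL_iff.1 hgS _ _
    obtain ⟨-, z, hz⟩ := h₁.nondegenerate (Pi.single 0 (1 : F)) (by simp)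
    set s := f₁ (Pi.single 0 1) z
    set t := f₁ (mat a *ᵥ Pi.single 0 1) (mat a *ᵥ z)
    have ht : t ≠ 0 := fun h0 => by
      obtain ⟨-, y', hy'⟩ := h₂.nondegenerate (Pi.single 0 (1 : F)) (by simp)
      have := hiso (Pi.single 0 1) z (Pi.single 0 1) y'
      rw [show f₁ (mat a *ᵥ Pi.single 0 1) (mat a *ᵥ z) = 0 from h0, zero_mul] at this
      exact mul_ne_zero hz hy' this.symm
    let gb : (Fin 2 → Fin 2 → F) →ₗ[F] (Fin 2 → Fin 2 → F) :=
      Ψ.symm.toLinearMap ∘ₗ (Matrix.toLin' (mat b)) ∘ₗ Ψ.toLinearMap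
    have hgb : ∀ M, Ψ (gb M) = mat b *ᵥ Ψ M := fun M => by simp [gb]
    obtain ⟨A, B, hAB⟩ := exists_factors h2 (g := gb) (μ := s / t) (div_ne_zero hz ht) (fun M N => by
      rw [← hΨ, ← hΨ, hgb, hgb]
      field_simp
      linear_combination hiso (Pi.single 0 1) z (Ψ M) (Ψ N))
    have hAu : ∀ (C D : Matrix (Fin 2) (Fin 2) F), (∀ y z, gb (otimes y z) = otimes (C *ᵥ y) (D *ᵥ z)) ∨
        (∀ y z, gb (otimes y z) = otimes (D *ᵥ z) (C *ᵥ y)) → IsUnit C ∧ IsUnit D := by
      intro C D hCD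
      have hinj : Function.Injective gb := fun M N h => Ψ.injective
        (mulVec_injective b (by show mat b *ᵥ Ψ M = mat b *ᵥ Ψ N; rw [← hgb, ← hgb, h]))
      have hne : ∀ {u v : Fin 2 → F}, u ≠ 0 → v ≠ 0 → otimes u v ≠ 0 := fun {u v} hu hv h => by
        obtain ⟨i, hi⟩ := Function.ne_iff.1 hu
        obtain ⟨j, hj⟩ := Function.ne_iff.1 hv
        exact mul_ne_zero hi hj (congrFun (congrFun h i) j)
      have hone : (Pi.single 0 (1 : F) : Fin 2 → F) ≠ 0 := by simp
      constructor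
      · rw [← Matrix.mulVec_injective_iff_isUnit]
        refine (injective_iff_map_eq_zero C.mulVecLin).2 fun y hy => ?_
        by_contra hy0
        refine hne hy0 hone (hinj ?_)
        rw [map_zero]
        rcases hCD with h | h <;>
        · rw [h, show C *ᵥ y = 0 from hy]; funext i j; simp [otimes]
      · rw [← Matrix.mulVec_injective_iff_isUnit]
        refine (injective_iff_map_eq_zero D.mulVecLin).2 fun y hy => ?_
        by_contra hy0
        refine hne hone hy0 (hinj ?_)
        rw [map_zero]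
        rcases hCD with h | h <;>
        · rw [h, show D *ᵥ y = 0 from hy]; funext i j; simp [otimes]
    obtain ⟨hAu', hBu⟩ := hAu A B hAB
    rcases hAB with h | h
    · refine MaxSub.mem_tensorWreathSubgroup_of (σ := 1) (as := ![a, hAu'.unit, hBu.unit]) fun xs => ?_
      rw [hpt, hpt]
      show mat g *ᵥ tri xs = _
      simp only [tri]
      rw [hab, ← hgb, h]
      simp
    · refine MaxSub.mem_tensorWreathSubgroup_of (σ := Equiv.swap 1 2) (as := ![a, hBu.unit, hAu'.unit]) fun xs => ?_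
      rw [hpt, hpt]
      show mat g *ᵥ tri xs = _
      simp only [tri]
      rw [hab, ← hgb, h]
      simp [Equiv.swap_apply_def]
  -- the exchange of the first two factors
  let S : (Fin 4 ⊕ Fin 4 → F) →ₗ[F] (Fin 4 ⊕ Fin 4 → F) :=
    { toFun := fun x i => x (e'.symm (e' i ∘ Equiv.swap 0 1))
      map_add' := fun _ _ => rfl
      map_smul' := fun _ _ => rfl }
  have hS2 : ∀ x, S (S x) = x := fun x => funext fun i => by
    show x (e'.symm (e' (e'.symm (e' i ∘ Equiv.swap 0 1)) ∘ Equiv.swap 0 1)) = x i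
    rw [Equiv.apply_symm_apply, Function.comp_assoc, ← Equiv.coe_trans, Equiv.swap_swap, Equiv.coe_refl,
      Function.comp_id, Equiv.symm_apply_apply]
  have hSm : LinearMap.toMatrix' S * LinearMap.toMatrix' S = 1 := by
    rw [← LinearMap.toMatrix'_comp, show S ∘ₗ S = LinearMap.id from LinearMap.ext hS2, LinearMap.toMatrix'_id]
  let g₀ : GL (Fin 4 ⊕ Fin 4) F := ⟨LinearMap.toMatrix' S, LinearMap.toMatrix' S, hSm, hSm⟩
  let sw : GL (Fin 4 ⊕ Fin 4) F := P' * g₀ * P'⁻¹
  have hsw : ∀ xs, mat sw *ᵥ ptmul e' P' xs = ptmul e' P' (fun j => xs (Equiv.swap 0 1 j)) := fun xs => by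
    simp only [ptmul, cvec_apply, sw, mat, Units.val_mul, Matrix.mulVec_mulVec, Units.inv_mul_cancel_right]
    rw [← Matrix.mulVec_mulVec]
    congr 1
    show LinearMap.toMatrix' S *ᵥ _ = _
    rw [LinearMap.toMatrix'_mulVec]
    funext i
    show ∏ j, xs j (e' (e'.symm (e' i ∘ Equiv.swap 0 1)) j) = ∏ j, xs (Equiv.swap 0 1 j) (e' i j)
    rw [Equiv.apply_symm_apply, ← Equiv.prod_comp (Equiv.swap (0 : Fin 3) 1)]
    simp
  have hswS : sw ∈ Cfsg.spGL 4 F := by
    have key : ∀ x ∈ Submodule.span F (Set.range (ptmul e' P')), ∀ y ∈ Submodule.span F (Set.range (ptmul e' P')),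
        Cfsg.sympForm 4 F (mat sw *ᵥ x) (mat sw *ᵥ y) = Cfsg.sympForm 4 F x y := by
      intro x hx y hy
      induction hx using Submodule.span_induction with
      | mem x hx =>
        obtain ⟨xs, rfl⟩ := hx
        induction hy using Submodule.span_induction with
        | mem y hy =>
          obtain ⟨ys, rfl⟩ := hy
          rw [hsw, hsw, hfpt, hfpt]
          congr 1
          exact Equiv.prod_comp (Equiv.swap (0 : Fin 3) 1) fun s => det2 (xs s) (ys s)
        | zero => simp [hf.zero_right]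
        | add a b _ _ ha hb => simp [Matrix.mulVec_add, hf.sesq.add_right, ha, hb]
        | smul l a _ ha => simp [Matrix.mulVec_smul, hf.sesq.smul_right, ha]
      | zero => simp [hf.zero_left]
      | add a b _ _ ha hb => simp [Matrix.mulVec_add, hf.sesq.add_left, ha, hb]
      | smul l a _ ha => simp [Matrix.mulVec_smul, hf.sesq.smul_left, ha]
    exact MaxSub.mem_spGL_iff.2 fun x y => key x (by rw [span_ptmul]; trivial) y (by rw [span_ptmul]; trivial)
  have hswT : sw ∉ tensorProductSubgroup 2 4 e P := by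
    intro hT'
    obtain ⟨a, b, hab⟩ := TensorNonmax.mem_tensorProductSubgroup hT'
    set x := mat a *ᵥ (Pi.single 0 (1 : F) : Fin 2 → F) with hx
    let xs : Fin 2 → Fin 3 → Fin 2 → F := fun k => ![Pi.single 0 1, Pi.single k 1, Pi.single k 1]
    have h1 : ∀ k, ∃ N : Fin 2 → Fin 2 → F, ptmul e' P' (fun j => xs k (Equiv.swap 0 1 j)) =
        tmul e P x (Ψ N) := fun k => by
      refine ⟨Ψ.symm (mat b *ᵥ Ψ (otimes (xs k 1) (xs k 2))), ?_⟩
      rw [← hsw, hpt, Ψ.apply_symm_apply]
      show mat sw *ᵥ tri (xs k) = _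
      simp only [tri]
      rw [hab]
      simp [hx, xs]
    have h2' : ∀ k (N : Fin 2 → Fin 2 → F) (a' : Fin 3 → Fin 2),
        ptmul e' P' (fun j => xs k (Equiv.swap 0 1 j)) = tmul e P x (Ψ N) →
        x (a' 0) * N (a' 1) (a' 2) = ∏ j, xs k (Equiv.swap 0 1 j) (a' j) := by
      intro k N a' hk
      have hN : N = otimes (Pi.single 0 1) (N 0) + otimes (Pi.single 1 1) (N 1) := funext fun j => funext fun l => by
        fin_cases j <;> simp [otimes]
      have h3 : tmul e P x (Ψ N) = ptmul e' P' ![x, Pi.single 0 1, N 0] + ptmul e' P' ![x, Pi.single 1 1, N 1] := by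
        rw [hpt, hpt]
        conv_lhs => rw [hN, map_add, map_add]
        rfl
      rw [h3] at hk
      simp only [ptmul, cvec_apply, ← Matrix.mulVec_add] at hk
      have h4 := congrFun (mulVec_injective P' hk) (e'.symm a')
      simp only [Function.comp_apply, Pi.add_apply, Equiv.apply_symm_apply, Fin.prod_univ_three] at h4 ⊢
      rw [h4]
      simp only [Matrix.cons_val_zero, Matrix.cons_val_one, Matrix.cons_val]
      generalize a' 1 = q
      fin_cases q <;> simp
    obtain ⟨N, hN⟩ := h1 0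
    obtain ⟨N', hN'⟩ := h1 1
    have k0 := h2' 1 N' ![0, 0, 1] hN'
    have k1 := h2' 1 N' ![1, 0, 1] hN'
    have k2 := h2' 0 N ![0, 0, 0] hN
    simp [xs, Fin.prod_univ_three, Equiv.swap_apply_def] at k0 k1 k2
    rcases k0 with h | h
    · rw [h, zero_mul] at k2; exact zero_ne_one k2
    · rw [h, mul_zero] at k1; exact zero_ne_one k1
  have hswW : sw ∈ tensorWreathSubgroup 2 3 e' P' :=
    MaxSub.mem_tensorWreathSubgroup_of (σ := Equiv.swap 0 1) (as := fun _ => 1) fun xs => by
      rw [hsw]; simp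
  exact ⟨_, lt_of_le_of_ne hle fun h => hswT (h.symm.le ⟨hswW, hswS⟩).1,
    lt_of_le_of_ne inf_le_right fun h => not_le_wreath le_rfl (by norm_num) e' P' (h.ge.trans inf_le_left)⟩

end CfsgLib.AschbacherSp
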